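import Cfsg.Agent.H86.Van.Two
import Cfsg.Agent.H515.KillExc
import Cfsg.Agent.H620.RowClass
import Cfsg.Agent.S2378
import Cfsg.Agent.S1054

/-!
# The row of `E₇(q)` of S4987 (helper86)

* `numE7` : an irreducible character of `E₇(q)` of degree divisible by the index of the parabolic subgroup
  of type `A₂ A₁ A₃`;
* `killE7` : `Kill G p` for primes `p ∤ r ∏_{i ≤ 4} (q ^ i - 1)`;
* `row`, `row_of` : `Row p` for `E₇(q)`, `p ≥ 5` different from the characteristic.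
-/

set_option autoImplicit false
set_option linter.unusedSectionVars false

namespace Cfsg.Agent.H86.Van.E7

open Cfsg Cfsg.Lie Cfsg.Agent.H620 Cfsg.Agent.H620.RowSz Cfsg.Agent.H515.KillExc Cfsg.Agent.H387.VO
open Cfsg.Agent.H53.HC Cfsg.Agent.H53.HC.ExcRows
open CoxeterSystem Cfsg.Agent.ChevalleyStructure.CoxeterGeom Cfsg.Agent.Tits.Roots Cfsg.Agent.Tits.Core
  Cfsg.Agent.Tits.Exchange Cfsg.Agent.Nodes.Reps Cfsg.Agent.Nodes.BNOf Cfsg.Agent.Nodes.StabComb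
  Cfsg.Agent.Nodes.Bruhat Cfsg.Agent.Nodes.OppDec Cfsg.Agent.Nodes.LeviDec Cfsg.Agent.H35.ExcIdx
  Cfsg.Agent.H35.PoinNum Cfsg.Agent.Nodes.RGDChev
open Cfsg.Agent.LieRecognition.BNCox (cA)

universe u

variable {K : Type u} [Field K] [Fintype K] {r f : ℕ} (hr : r.Prime) (hf : f ≠ 0)
  (hK : Fintype.card K = r ^ f) [CharP K r]

include hr hf hK in
theorem numE7 : ∃ (χ : ↥(chevE7.group K) → ℂ) (N idx : ℕ), IsIrrCharacter ↥(chevE7.group K) χ ∧ χ 1 = N ∧
    idx ∣ N ∧ idx * pr (r ^ f) [1, 2, 3, 2, 2, 3, 4] = pr (r ^ f) [2, 6, 8, 10, 12, 14, 18] ∧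
    Nat.gcd 2 (r ^ f - 1) * Nat.card ↥(chevE7.group K) * pr (r ^ f) [] =
      r ^ (f * 63) * pr (r ^ f) [2, 6, 8, 10, 12, 14, 18] := by
  have := Cfsg.Agent.H53.HC.ExcRows.finite_group (K := K) chevE7
  have : Fact r.Prime := ⟨hr⟩
  obtain ⟨χ, hχ, N, hN, hidx⟩ := hasIdx_E7 hr hf hK
  have h2 := two_le hr hf
  have hJ : ({j | j ≠ 3} : Set (Fin 7)) = {j | j ∈ ([0, 1, 2, 4, 5, 6] : List (Fin 7))} := by
    ext j; revert j; decide
  have hfin := finite_W hpE7 CoxeterMatrix.E₇.toCoxeterSystem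
  have R := rgd (K := K) hpE7 CoxeterMatrix.E₇.toCoxeterSystem r
  have hc : ∀ i, Nat.card (XX chevE7 7 K (sr i)) = r ^ f := fun i => by
    rw [card_XX hpE7 K CoxeterMatrix.E₇.toCoxeterSystem (isRoot_sr _ _ i), Nat.card_eq_fintype_card, hK]
  have h3 := Cfsg.Agent.S1064.result hK
  have hI := index_split hpE7 K hr hf hK CoxeterMatrix.E₇.toCoxeterSystem (J := {j | j ≠ 3})
    (d := Nat.gcd 2 (r ^ f - 1))
    (N := FA 2 (r ^ f) * (FA 1 (r ^ f) * (FA 3 (r ^ f) * 1)))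
    (P := pr (r ^ f) [2, 6, 8, 10, 12, 14, 18]) (not_dvd_of_dvd hr hf (Nat.gcd_dvd_right _ _))
    (by rw [← hK]; exact Cfsg.Agent.S1035.result rfl (chevE7, Nat.gcd 2 (Fintype.card K - 1)) (by simp))
    ⟨f * 63, by
      rw [pow_mul]
      simp only [pr_cons, pr_nil]
      rw [h3]
      ring⟩ (not_dvd_pr hr hf _ (by simp)) (by
        rw [hJ]
        exact card_step R path_E7_3_0 (fun i _ => hc i) (card_step R path_E7_3_1 (fun i _ => hc i)
          (card_step R path_E7_3_2 (fun i _ => hc i) (card_nil R))))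
  refine ⟨χ, N, _, hχ, hN, hidx, ?_, ?_⟩
  · rw [← hI]
    have e1 := mul_poin (show 1 ≤ r ^ f by omega) 1
    have e2 := mul_poin (show 1 ≤ r ^ f by omega) 2
    have e3 := mul_poin (show 1 ≤ r ^ f by omega) 3
    have e : pr (r ^ f) [1, 2, 3, 2, 2, 3, 4] = (r ^ f - 1) ^ 1 * ((∏ i ∈ Finset.range 2, ((r ^ f) ^ (i + 2) - 1)) * (∏ i ∈ Finset.range 1, ((r ^ f) ^ (i + 2) - 1)) * (∏ i ∈ Finset.range 3, ((r ^ f) ^ (i + 2) - 1))) := by
      simp only [pr_cons, pr_nil, Finset.prod_range_succ, Finset.prod_range_zero, pow_one]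
      ring
    rw [e, ← e1, ← e2, ← e3]
    unfold FA
    ring
  · rw [pow_mul]
    simp only [pr_cons, pr_nil]
    rw [h3]
    ring

/-- the order of `q` modulo `p` -/
theorem prim {q p : ℕ} (hq : 1 ≤ q) (m : ℕ) : p ∣ q ^ m - 1 ↔ orderOf (q : ZMod p) ∣ m := by
  rw [orderOf_dvd_iff_pow_eq_one, ← Nat.cast_pow, ← Nat.cast_one (R := ZMod p),
    ZMod.natCast_eq_natCast_iff, Nat.ModEq.comm, Nat.modEq_iff_dvd' (Nat.one_le_pow _ _ hq)]

include hr hf hK in
theorem killE7 {p : ℕ} (hp : p.Prime) (hpr : p ≠ r) (h2 : ¬ p ∣ (r ^ f) ^ 2 - 1) (h3 : ¬ p ∣ (r ^ f) ^ 3 - 1)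
    (h4 : ¬ p ∣ (r ^ f) ^ 4 - 1) : Kill ↥(chevE7.group K) p := by
  have := Cfsg.Agent.H53.HC.ExcRows.finite_group (K := K) chevE7
  obtain ⟨χ, N, idx, hχ, hN, hidx, hI, hcard⟩ := numE7 hr hf hK
  have h1q : 1 ≤ r ^ f := by
    have := two_le hr hf
    omega
  refine kill_num (e := orderOf ((r ^ f : ℕ) : ZMod p)) hr hχ hN hidx hI hcard hp hpr (prim h1q) ?_
  have h1 : ¬ orderOf ((r ^ f : ℕ) : ZMod p) ∣ 1 := by
    intro h
    exact h2 ((prim h1q 2).2 (h.trans (by norm_num)))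
  rw [prim h1q] at h2 h3 h4
  intro x hx
  simp only [List.mem_cons, List.not_mem_nil, or_false] at hx
  rcases hx with rfl | rfl | rfl | rfl | rfl | rfl | rfl <;> assumption

/-- the chain `0, 2` -/
def kA : Fin 2 ↪ Fin 7 := ⟨![0, 2], by decide⟩
/-- the chain `1, 3, 4, 5, 6` -/
def kB : Fin 5 ↪ Fin 7 := ⟨![1, 3, 4, 5, 6], by decide⟩

theorem hkA : ∀ i j, m7 (kA i) (kA j) = mA 2 i j := by decide +kernel
theorem hkB : ∀ i j, m7 (kB i) (kB j) = mA 5 i j := by decide +kernel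
theorem orA : ∀ i j, m7 (k7 i) (kA j) = 2 := by decide +kernel
theorem orB : ∀ i, m7 (kB i) 0 = 2 := by decide +kernel

include hr hf hK in
theorem twoA (hst : Kill ↥(chevE7.group K) r) {p : ℕ} (hp : p.Prime) (hpr : p ≠ r) (h5 : 5 ≤ p) {e : ℕ}
    (h2 : 2 ≤ e) (he : e ≤ 4) (hd : p ∣ (r ^ f) ^ e - 1) : TwoVan p ↥(chevE7.group K) := by
  have := Cfsg.Agent.H53.HC.ExcRows.finite_group (K := K) chevE7
  have D := data_E7_3 hr hf hK
  have := D.fin
  refine twoVan_chain D.rgd hr D.size hst (m := 3) (by norm_num) k7 hk7 kA hkA orA hp hpr (by omega) ?_ h2 he hd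
  intro h
  have := Nat.le_of_dvd (by norm_num) h
  omega

include hr hf hK in
theorem ordB {p : ℕ} (hp : p.Prime) (hpr : p ≠ r) (h5 : 5 ≤ p) (hd : p ∣ (r ^ f) ^ 6 - 1) :
    ∃ y : ↥(chevE7.group K), orderOf y = p * r := by
  have := Cfsg.Agent.H53.HC.ExcRows.finite_group (K := K) chevE7
  have D := data_E7_3 hr hf hK
  have := D.fin
  refine exists_mul_order D.rgd hr hf D.size (m := 5) (by norm_num) kB hkB 0 orB hp hpr ?_ (e := 6) (by norm_num)
    (by norm_num) hd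
  intro h
  rcases hp.dvd_mul.1 (show p ∣ 2 * 3 from h) with h | h
  · have := Nat.le_of_dvd (by norm_num) h
    omega
  · have := Nat.le_of_dvd (by norm_num) h
    omega

/-- a prime dividing one of the numbers -/
theorem exists_of_dvd_pr {q p : ℕ} (hp : p.Prime) : ∀ l : List ℕ, p ∣ pr q l → ∃ d ∈ l, p ∣ q ^ d - 1
  | [], h => absurd (Nat.dvd_one.1 (by rwa [pr_nil] at h)) hp.one_lt.ne'
  | d :: l, h => by
    rw [pr_cons] at h
    rcases hp.dvd_mul.1 h with h | h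
    · exact ⟨d, List.mem_cons_self, h⟩
    · obtain ⟨e, he, h⟩ := exists_of_dvd_pr hp l h
      exact ⟨e, List.mem_cons_of_mem _ he, h⟩

/-- small primes -/
theorem eleven_le {q p : ℕ} (hp : p.Prime) (h5 : 5 ≤ p) (hpq : ¬ p ∣ q) (hq : 1 ≤ q) (h4 : ¬ p ∣ q ^ 4 - 1)
    (h6 : ¬ p ∣ q ^ 6 - 1) : 11 ≤ p := by
  have h0 : p ∣ q ^ (p - 1) - 1 := by
    have : Fact p.Prime := ⟨hp⟩
    rw [prim hq]
    apply orderOf_dvd_of_pow_eq_one
    apply ZMod.pow_card_sub_one_eq_one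
    rwa [Ne, ZMod.natCast_eq_zero_iff]
  by_contra hlt
  push Not at hlt
  have h7 : p = 5 ∨ p = 7 := by
    interval_cases p
    · exact Or.inl rfl
    · exact absurd hp (by norm_num)
    · exact Or.inr rfl
    · exact absurd hp (by norm_num)
    · exact absurd hp (by norm_num)
    · exact absurd hp (by norm_num)
  rcases h7 with rfl | rfl
  · exact h4 h0
  · exact h6 h0

/-- the orders occurring for exactly one degree -/
theorem filter_le {e : ℕ} (h4 : ¬ e ∣ 4) (h6 : ¬ e ∣ 6)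
    (hd : ∃ d ∈ [2, 6, 8, 10, 12, 14, 18], e ∣ d) :
    ([2, 6, 8, 10, 12, 14, 18].filter (fun d => e ∣ d)).length = 1 := by
  obtain ⟨d, hd, hed⟩ := hd
  have hle : e ≤ 18 := by
    have h1 : d ≤ 18 ∧ 0 < d := by
      simp only [List.mem_cons, List.not_mem_nil, or_false] at hd
      omega
    exact (Nat.le_of_dvd h1.2 hed).trans h1.1
  have h2 : ∃ d ∈ [2, 6, 8, 10, 12, 14, 18], e ∣ d := ⟨d, hd, hed⟩
  clear hed hd
  revert h2 h6 h4
  interval_cases e <;> decide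

include hr hf hK in
/-- a cyclic Sylow subgroup -/
theorem exists_sylow {p : ℕ} (hp : p.Prime) (hpr : p ≠ r) (h5 : 5 ≤ p) (h4 : ¬ p ∣ (r ^ f) ^ 4 - 1)
    (h6 : ¬ p ∣ (r ^ f) ^ 6 - 1) (hd2 : p ^ 2 ∣ Nat.card ↥(chevE7.group K)) :
    ∃ y : ↥(chevE7.group K), p ∣ orderOf y ∧ orderOf y ≠ p := by
  have := Cfsg.Agent.H53.HC.ExcRows.finite_group (K := K) chevE7
  have : Fact p.Prime := ⟨hp⟩
  obtain ⟨χ, N, idx, hχ, hN, hidx, hI, hcard⟩ := numE7 hr hf hK
  have hq2 := two_le hr hf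
  have hpq : ¬ p ∣ r ^ f := fun h => hpr ((Nat.prime_dvd_prime_iff_eq hp hr).1 (hp.dvd_of_dvd_pow h))
  have h11 := eleven_le hp h5 hpq (by omega) h4 h6
  have hd : p ∣ Nat.card ↥(chevE7.group K) := (dvd_pow_self p two_ne_zero).trans hd2
  obtain ⟨d, hdm, hpd⟩ : ∃ d ∈ [2, 6, 8, 10, 12, 14, 18], p ∣ (r ^ f) ^ d - 1 := by
    refine exists_of_dvd_pr hp _ ?_
    have h1 : p ∣ r ^ (f * 63) * pr (r ^ f) [2, 6, 8, 10, 12, 14, 18] := by
      rw [← hcard]
      exact Dvd.dvd.mul_right (Dvd.dvd.mul_left hd _) _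
    refine (hp.dvd_mul.1 h1).resolve_left fun h => hpr ((Nat.prime_dvd_prime_iff_eq hp hr).1 (hp.dvd_of_dvd_pow h))
  have hlen := filter_le (e := orderOf ((r ^ f : ℕ) : ZMod p)) (fun h => h4 ((prim (by omega) _).2 h))
    (fun h => h6 ((prim (by omega) _).2 h)) ⟨d, hdm, (prim (by omega) _).1 hpd⟩
  let P : Sylow p ↥(chevE7.group K) := default
  obtain ⟨e⟩ := Cfsg.Agent.S2378.result (F := K) (q := r ^ f) hK (chevE7, [2, 6, 8, 10, 12, 14, 18]) (by simp) p hpq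
    (by
      intro h
      have h1 : p ∣ 2 ^ 10 * 3 ^ 4 * 5 * 7 := by
        refine dvd_trans h (dvd_of_eq ?_)
        norm_num
      rcases hp.dvd_mul.1 h1 with h1 | h1
      · rcases hp.dvd_mul.1 h1 with h1 | h1
        · rcases hp.dvd_mul.1 h1 with h1 | h1
          · have := Nat.le_of_dvd (by norm_num) (hp.dvd_of_dvd_pow h1)
            omega
          · have := Nat.le_of_dvd (by norm_num) (hp.dvd_of_dvd_pow h1)
            omega
        · have := Nat.le_of_dvd (by norm_num) h1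
          omega
      · have := Nat.le_of_dvd (by norm_num) h1
        omega) hd P
  set v := padicValNat p ((Polynomial.cyclotomic (orderOf ((r ^ f : ℕ) : ZMod p)) ℤ).eval ((r ^ f : ℕ) : ℤ)).natAbs with hv
  have hcP : p ^ 2 ∣ Nat.card P := by
    rw [P.card_eq_multiplicity]
    exact pow_dvd_pow p ((hp.pow_dvd_iff_le_factorization Nat.card_pos.ne').1 hd2)
  have hcard' : Nat.card P = p ^ v := by
    rw [Nat.card_congr e.toEquiv, Nat.card_fun, Nat.card_eq_fintype_card (α := Fin _), Fintype.card_fin, hlen, pow_one]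
    exact Nat.card_zmod _
  have hv2 : 2 ≤ v := by
    rw [hcard'] at hcP
    exact (Nat.pow_dvd_pow_iff_le_right hp.one_lt).1 hcP
  -- a generator
  let g := e.symm (fun _ => Multiplicative.ofAdd (1 : ZMod (p ^ v)))
  have hg : orderOf g = p ^ v := by
    rw [MulEquiv.orderOf_eq]
    apply Nat.dvd_antisymm
    · rw [orderOf_dvd_iff_pow_eq_one]
      funext i
      rw [Pi.pow_apply, ← ofAdd_nsmul, nsmul_one, ZMod.natCast_self]
      rfl
    · have h1 := pow_orderOf_eq_one (fun _ : Fin (([2, 6, 8, 10, 12, 14, 18] : List ℕ).filter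
        (fun e => orderOf ((r ^ f : ℕ) : ZMod p) ∣ e)).length => Multiplicative.ofAdd (1 : ZMod (p ^ v)))
      have h2 := congrFun h1 ⟨0, by rw [hlen]; norm_num⟩
      rw [Pi.pow_apply, ← ofAdd_nsmul, nsmul_one] at h2
      have h3 : ((orderOf (fun _ : Fin (([2, 6, 8, 10, 12, 14, 18] : List ℕ).filter
        (fun e => orderOf ((r ^ f : ℕ) : ZMod p) ∣ e)).length => Multiplicative.ofAdd (1 : ZMod (p ^ v))) : ℕ) :
          ZMod (p ^ v)) = 0 := h2
      exact (ZMod.natCast_eq_zero_iff _ _).1 h3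
  refine ⟨(g : ↥(chevE7.group K)), ?_, ?_⟩
  · rw [Subgroup.orderOf_coe, hg]
    exact dvd_pow_self p (by omega)
  · rw [Subgroup.orderOf_coe, hg]
    intro h
    have h1 : p ^ v = p ^ 1 := by rw [h, pow_one]
    have := Nat.pow_right_injective hp.two_le h1
    omega

include hr hf hK in
theorem row' (hst : Kill ↥(chevE7.group K) r) {p : ℕ} [Fact p.Prime] (hpr : p ≠ r) (h5 : 5 ≤ p)
    (hd : p ∣ Nat.card ↥(chevE7.group K)) : Row p ↥(chevE7.group K) := by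
  have := Cfsg.Agent.H53.HC.ExcRows.finite_group (K := K) chevE7
  have hp : p.Prime := Fact.out
  by_cases hd2 : p ^ 2 ∣ Nat.card ↥(chevE7.group K)
  swap
  · left
    have h1 : 0 < (Nat.card ↥(chevE7.group K)).factorization p := hp.factorization_pos_of_dvd Nat.card_pos.ne' hd
    have h2 : ¬ 2 ≤ (Nat.card ↥(chevE7.group K)).factorization p := fun h =>
      hd2 ((hp.pow_dvd_iff_le_factorization Nat.card_pos.ne').2 h)
    omega
  right; right
  by_cases h2 : p ∣ (r ^ f) ^ 2 - 1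
  · exact twoA hr hf hK hst hp hpr h5 le_rfl (by norm_num) h2
  by_cases h3 : p ∣ (r ^ f) ^ 3 - 1
  · exact twoA hr hf hK hst hp hpr h5 (by norm_num) (by norm_num) h3
  by_cases h4 : p ∣ (r ^ f) ^ 4 - 1
  · exact twoA hr hf hK hst hp hpr h5 (by norm_num) (by norm_num) h4
  have hk := killE7 hr hf hK hp hpr h2 h3 h4
  by_cases h6 : p ∣ (r ^ f) ^ 6 - 1
  · obtain ⟨y, hy⟩ := ordB hr hf hK hp hpr h5 h6
    refine twoVan_of_kill hp hd hk (y := y) (by rw [hy]; exact dvd_mul_right _ _) ?_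
    rw [hy]
    intro h
    have h7 := Nat.eq_of_mul_eq_mul_left hp.pos (h.trans (mul_one p).symm)
    exact hr.one_lt.ne' h7
  · obtain ⟨y, hy1, hy2⟩ := exists_sylow hr hf hK hp hpr h5 h4 h6 hd2
    exact twoVan_of_kill hp hd hk hy1 hy2

/-- **The row of `E₇(q)`**: `p ≥ 5`, `p` not the characteristic. -/
theorem row_group {F : Type} [Field F] [Fintype F] [hF : CharP F r] {p : ℕ} [Fact p.Prime] (hpr : p ≠ r)
    (h5 : 5 ≤ p) (hd : p ∣ Nat.card ↥(chevE7.group F)) : Row p ↥(chevE7.group F) := by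
  have hr : r.Prime := CharP.char_is_prime F r
  obtain ⟨⟨f, hf⟩, -, hFc⟩ := FiniteField.card F r
  have hf' : f ≠ 0 := hf.ne'
  have := Cfsg.Agent.H53.HC.ExcRows.finite_group (K := F) chevE7
  have : IsSimpleGroup ↥(chevE7.group F) := (Cfsg.Agent.S1054.result (F := F) chevE7 (by simp)).1
  have hL : IsLieTypeChar r ↥(chevE7.group F) := by
    refine Or.inr (Or.inr (Or.inr (Or.inr (Or.inr (Or.inr (Or.inl ⟨F, inferInstance, inferInstance, hF, ?_⟩))))))
    exact Or.inr (Or.inr (Or.inr (Or.inl ⟨MulEquiv.refl _⟩)))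
  exact row' hr hf' hFc (Cfsg.Agent.H620.RowClass.kill_of_lie hr hL) hpr h5 hd

/-- **The row of `E₇(q)`**, up to isomorphism. -/
theorem row {S : Type u} [Group S] {r : ℕ}
    (h : ∃ (F : Type) (_ : Field F) (_ : Fintype F) (_ : CharP F r), Nonempty (S ≃* ↥(chevE7.group F)))
    {p : ℕ} [Fact p.Prime] (h5 : 5 ≤ p) (hpr : p ≠ r) (hd : p ∣ Nat.card S) : Row p S := by
  obtain ⟨F, _, _, _, ⟨e⟩⟩ := h
  refine Row.mulEquiv ?_ e.symm
  exact row_group hpr h5 (by rwa [← Nat.card_congr e.toEquiv])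

end Cfsg.Agent.H86.Van.E7
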