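import Cfsg.Agent.H622.Levi.Cusp
import Cfsg.Agent.H53.HC.Exc
import Cfsg.Agent.H744.Fx.Tab

/-!
# Elements of orders `p`, `r`, `2 r` in chains of nodes (helper86, S4987)

`R` is root group data in characteristic `r` in a finite group, root groups of order `q = r ^ f`.

* `exists_prime` : a chain of `m ≥ 2` nodes contains elements of prime order `p ∣ q ^ e - 1`, `2 ≤ e ≤ m + 1`,
  `p ∤ m + 1`;
* `exists_uv` : a chain of two nodes contains elements of orders `r` and `2 r`;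
* `exists_u` : root groups contain elements of order `r`;
* `exists_triple` : orthogonal chains.
-/

set_option autoImplicit false
set_option linter.unusedSectionVars false

namespace Cfsg.Agent.H86.Van

open CoxeterSystem Cfsg.Agent.ChevalleyStructure.CoxeterGeom Cfsg.Agent.Tits.Roots Cfsg.Agent.Tits.Core
  Cfsg.Agent.Nodes.Reps Cfsg.Agent.Nodes.BNOf Cfsg.Agent.Nodes.StabComb Cfsg.Agent.H622.Levi
open Cfsg.Agent.LieRecognition.BNCox (cA)
open Matrix

section SL

variable {F : Type} [Field F]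

/-- a noncentral element of `SL₃` -/
theorem not_center_of {g : SpecialLinearGroup (Fin 3) F} {i j : Fin 3}
    (h : (i ≠ j ∧ g.1 i j ≠ 0) ∨ g.1 i i ≠ g.1 j j) : g ∉ Subgroup.center (SpecialLinearGroup (Fin 3) F) := by
  intro hc
  rw [Matrix.SpecialLinearGroup.mem_center_iff] at hc
  obtain ⟨c, -, hc⟩ := hc
  rw [← hc] at h
  rcases h with ⟨hij, h⟩ | h
  · apply h
    rw [Matrix.scalar_apply, Matrix.diagonal_apply_ne _ hij]
  · apply h
    rw [Matrix.scalar_apply, Matrix.diagonal_apply_eq, Matrix.diagonal_apply_eq]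

/-- the root element -/
def uu (t : F) : SpecialLinearGroup (Fin 3) F := ⟨!![1, t, 0; 0, 1, 0; 0, 0, 1], by
  rw [Matrix.det_fin_three]; simp⟩

/-- the regular unipotent element -/
def ww : SpecialLinearGroup (Fin 3) F := ⟨!![1, 1, 0; 0, 1, 1; 0, 0, 1], by
  rw [Matrix.det_fin_three]; simp⟩

/-- the element `diag(-1, -1, 1)` -/
def zz : SpecialLinearGroup (Fin 3) F := ⟨!![-1, 0, 0; 0, -1, 0; 0, 0, 1], by
  rw [Matrix.det_fin_three]; simp⟩

theorem uu_add (s t : F) : uu s * uu t = uu (s + t) := by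
  apply Subtype.ext
  change (uu s).1 * (uu t).1 = (uu (s + t)).1
  ext i j
  fin_cases i <;> fin_cases j <;> simp [uu, Matrix.mul_apply, Fin.sum_univ_three, add_comm]

theorem uu_zero : uu (0 : F) = 1 := by
  apply Subtype.ext
  ext i j
  fin_cases i <;> fin_cases j <;> simp [uu]

theorem uu_pow (t : F) (n : ℕ) : uu t ^ n = uu (n * t) := by
  induction n with
  | zero => rw [pow_zero, Nat.cast_zero, zero_mul, uu_zero]
  | succ n ih => rw [pow_succ, ih, uu_add]; congr 1; push_cast; ring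

theorem zz_sq : (zz : SpecialLinearGroup (Fin 3) F) ^ 2 = 1 := by
  rw [pow_two]
  apply Subtype.ext
  change (zz : SpecialLinearGroup (Fin 3) F).1 * zz.1 = 1
  ext i j
  fin_cases i <;> fin_cases j <;> simp [zz, Matrix.mul_apply, Fin.sum_univ_three]

theorem zz_comm (t : F) : uu t * zz = zz * uu t := by
  apply Subtype.ext
  change (uu t).1 * (zz : SpecialLinearGroup (Fin 3) F).1 = zz.1 * (uu t).1
  ext i j
  fin_cases i <;> fin_cases j <;> simp [uu, zz, Matrix.mul_apply, Fin.sum_univ_three]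

theorem ww_sq [CharP F 2] : ((ww : SpecialLinearGroup (Fin 3) F) ^ 2).1 = !![1, 0, 1; 0, 1, 0; 0, 0, 1] := by
  have h2 : (1 + 1 : F) = 0 := by rw [one_add_one_eq_two]; exact CharTwo.two_eq_zero
  rw [pow_two]
  change (ww : SpecialLinearGroup (Fin 3) F).1 * ww.1 = _
  ext i j
  fin_cases i <;> fin_cases j <;> simp [ww, Matrix.mul_apply, Fin.sum_univ_three, h2]

theorem ww_four [CharP F 2] : (ww : SpecialLinearGroup (Fin 3) F) ^ 4 = 1 := by
  have h2 : (1 + 1 : F) = 0 := by rw [one_add_one_eq_two]; exact CharTwo.two_eq_zero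
  rw [show 4 = 2 * 2 from rfl, pow_mul, pow_two (_ ^ 2)]
  apply Subtype.ext
  change ((ww : SpecialLinearGroup (Fin 3) F) ^ 2).1 * (ww ^ 2).1 = 1
  rw [ww_sq]
  ext i j
  fin_cases i <;> fin_cases j <;> simp [Matrix.mul_apply, Fin.sum_univ_three, h2]

end SL

variable {I W Y : Type*} [Fintype I] [DecidableEq I] [Group W] [Group Y] {M : CoxeterMatrix I}
  {cs : CoxeterSystem M W} {A : I → I → ℤ} {h : IsCartan M A} {r : ℕ} {T : Subgroup Y} {n : I → Y}
  {X : (I → ℤ) → Subgroup Y}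

section Co

variable {m : ℕ} {F : Type} [Field F] [Fintype F]

theorem orderOf_prime_of_co {k : Fin m → I} {φ : SpecialLinearGroup (Fin (m + 1)) F →* Y} (C : Co X k F φ)
    {p e : ℕ} (hp : p.Prime) (hpm : ¬ p ∣ m + 1) (h2 : 2 ≤ e) (he : e ≤ m + 1)
    (hd : p ∣ Fintype.card F ^ e - 1) : ∃ s ∈ φ.range, orderOf s = p := by
  have : Fact p.Prime := ⟨hp⟩
  obtain ⟨s, hs⟩ := exists_prime_orderOf_dvd_card' p (hd.trans (Cfsg.Agent.H744.Fx.dvd_card_sl h2 he))
  refine ⟨φ s, ⟨s, rfl⟩, orderOf_eq_prime ?_ ?_⟩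
  · rw [← map_pow, ← hs, pow_orderOf_eq_one, map_one]
  · intro h1
    have h3 : s ^ (m + 1) = 1 := Cfsg.Agent.H744.Fx.center_pow (C.ker h1)
    exact hpm (hs ▸ orderOf_dvd_of_pow_eq_one h3)

theorem orders_of_co {k : Fin 2 → I} {φ : SpecialLinearGroup (Fin 3) F →* Y} (C : Co X k F φ) (hr : r.Prime)
    [CharP F r] : (∃ u ∈ φ.range, orderOf u = r) ∧ ∃ v ∈ φ.range, orderOf v = 2 * r := by
  have : Fact r.Prime := ⟨hr⟩
  have h1 : orderOf (φ (uu 1)) = r := by
    refine orderOf_eq_prime ?_ fun e => not_center_of (i := 0) (j := 1) (Or.inl ⟨by decide, ?_⟩) (C.ker e)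
    · rw [← map_pow, uu_pow, CharP.cast_eq_zero, zero_mul, uu_zero, map_one]
    · simp [uu]
  refine ⟨⟨_, ⟨_, rfl⟩, h1⟩, ?_⟩
  by_cases hr2 : r = 2
  · subst hr2
    refine ⟨φ ww, ⟨_, rfl⟩, ?_⟩
    have h2 := orderOf_eq_prime_pow (x := φ ww) (p := 2) (n := 1) (fun e => by
      rw [pow_one, ← map_pow] at e
      refine not_center_of (i := 0) (j := 2) (Or.inl ⟨by decide, ?_⟩) (C.ker e)
      rw [ww_sq]
      simp) (by
      change φ ww ^ 4 = 1
      rw [← map_pow, ww_four, map_one])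
    rw [h2]
    norm_num
  · refine ⟨φ (uu 1) * φ zz, mul_mem ⟨_, rfl⟩ ⟨_, rfl⟩, ?_⟩
    have h2 : (2 : F) ≠ 0 := by
      intro e
      have h3 : r ∣ 2 := (CharP.cast_eq_zero_iff F r 2).1 (by exact_mod_cast e)
      exact hr2 ((Nat.prime_dvd_prime_iff_eq hr Nat.prime_two).1 h3)
    have h3 : orderOf (φ zz) = 2 := by
      refine orderOf_eq_prime ?_ fun e => not_center_of (i := 0) (j := 2) (Or.inr ?_) (C.ker e)
      · rw [← map_pow, zz_sq, map_one]
      · change (-1 : F) ≠ 1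
        intro e2
        apply h2
        linear_combination -e2
    have h4 : Commute (φ (uu 1)) (φ zz) := by
      change φ (uu 1) * φ zz = φ zz * φ (uu 1)
      rw [← map_mul, zz_comm, map_mul]
    rw [h4.orderOf_mul_eq_mul_orderOf_of_coprime (by
      rw [h1, h3]
      exact (Nat.coprime_primes hr Nat.prime_two).2 hr2), h1, h3, mul_comm]

end Co

theorem charP_of_card {F : Type} [Field F] [Fintype F] {f : ℕ} (hr : r.Prime)
    (hF : Fintype.card F = r ^ f) : CharP F r := by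
  have : Fact r.Prime := ⟨hr⟩
  exact charP_of_card_eq_prime_pow hF

/-- **Elements of prime order in a chain.** -/
theorem exists_prime [Finite W] [Finite Y] (R : RGD cs h r T n X) {m : ℕ} (hm : 2 ≤ m) (k : Fin m ↪ I)
    (hk : ∀ i j, M (k i) (k j) = cA m i j) {q : ℕ} (hq : ∀ i, Nat.card (X (sr i)) = q) {p e : ℕ} (hp : p.Prime)
    (hpm : ¬ p ∣ m + 1) (h2 : 2 ≤ e) (he : e ≤ m + 1) (hd : p ∣ q ^ e - 1) :
    ∃ s ∈ H53.HC.MJ cs h X (Set.range k), orderOf s = p := by
  obtain ⟨F, _, _, φ, C⟩ := exists_co R hm k hk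
  have hF : Fintype.card F = q := by
    rw [← Nat.card_eq_fintype_card, ← C.card ⟨0, by omega⟩, hq]
  obtain ⟨s, hs, hs1⟩ := orderOf_prime_of_co C hp hpm h2 he (by rwa [hF])
  refine ⟨s, ?_, hs1⟩
  rw [C.range (cs := cs) (h := h) hk (by omega)] at hs
  exact hs

/-- **Elements of orders `r` and `2 r` in a chain of length two.** -/
theorem exists_uv [Finite W] [Finite Y] (R : RGD cs h r T n X) (k : Fin 2 ↪ I)
    (hk : ∀ i j, M (k i) (k j) = cA 2 i j) {f : ℕ} (hr : r.Prime)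
    (hq : ∀ i, Nat.card (X (sr i)) = r ^ f) :
    (∃ u ∈ H53.HC.MJ cs h X (Set.range k), orderOf u = r) ∧
      ∃ v ∈ H53.HC.MJ cs h X (Set.range k), orderOf v = 2 * r := by
  obtain ⟨F, _, _, φ, C⟩ := exists_co R le_rfl k hk
  have hF : Fintype.card F = r ^ f := by
    rw [← Nat.card_eq_fintype_card, ← C.card 0, hq]
  have := charP_of_card hr hF
  obtain ⟨⟨u, hu, hu1⟩, v, hv, hv1⟩ := orders_of_co C hr
  rw [C.range (cs := cs) (h := h) hk (by omega)] at hu hv
  exact ⟨⟨u, hu, hu1⟩, v, hv, hv1⟩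

/-- elements of order `r` in the group of a node -/
theorem exists_u [Finite W] [Finite Y] {f : ℕ} (hr : r.Prime) (hf : f ≠ 0)
    (hq : ∀ i, Nat.card (X (sr i)) = r ^ f) (i : I) : ∃ u ∈ H53.HC.MJ cs h X {i}, orderOf u = r := by
  have : Fact r.Prime := ⟨hr⟩
  obtain ⟨u, hu⟩ := exists_prime_orderOf_dvd_card' (G := X (sr i)) r (by rw [hq]; exact dvd_pow_self r hf)
  have h0 : (sr i : I → ℤ) ∈ RootsJ cs h {i} := by
    refine ⟨isRoot_sr cs h i, fun j hj => ?_⟩
    have hj : j ≠ i := hj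
    unfold sr
    rw [Pi.single_eq_of_ne hj]
  exact ⟨u, RGD.le_Sup h0 u.2, by rw [Subgroup.orderOf_coe, hu]⟩

end Cfsg.Agent.H86.Van
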