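import Cfsg.Agent.H86.Van.Levi
import Cfsg.Agent.H387.VO.Main
import Cfsg.Agent.H620.Kill

/-!
# `TwoVan p` for groups of Lie type from orthogonal chains of nodes (helper86, S4987)

* `twoVan_of_lie` : `Kill G r`, an element `s` of order `p` commuting with elements of orders `r` and `2 r`;
* `twoVan_of_kill` : `Kill G p` and a `p`-singular element of order `≠ p`;
* `twoVan_chain` : an element of order `p` in a chain orthogonal to a chain of length two;
* `exists_mul_order` : an element of order `p r` from a chain orthogonal to a node.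
-/

set_option autoImplicit false
set_option linter.unusedSectionVars false

namespace Cfsg.Agent.H86.Van

open Cfsg.Agent.H387.VO Cfsg.Agent.H620

section grp

variable {G : Type*} [Group G] {p r : ℕ}

theorem twoVan_of_lie (hp : p.Prime) (hr : r.Prime) (hpr : p ≠ r) (hp2 : p ≠ 2) (hk : Kill G r) {s u v : G}
    (hs : orderOf s = p) (hu : orderOf u = r) (hv : orderOf v = 2 * r) (hsu : s * u = u * s)
    (hsv : s * v = v * s) : TwoVan p G := by
  have hpr' : Nat.Coprime p r := (Nat.coprime_primes hp hr).2 hpr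
  have h1 : orderOf (s * u) = p * r := by
    rw [(show Commute s u from hsu).orderOf_mul_eq_mul_orderOf_of_coprime (by rwa [hs, hu]), hs, hu]
  have h2 : orderOf (s * v) = p * (2 * r) := by
    rw [(show Commute s v from hsv).orderOf_mul_eq_mul_orderOf_of_coprime (by
      rw [hs, hv]
      exact Nat.Coprime.mul_right ((Nat.coprime_primes hp Nat.prime_two).2 hp2) hpr'), hs, hv]
  refine TwoVan.of_order (x := s * u) (y := s * v) (by rw [h1]; exact dvd_mul_right _ _)
    (by rw [h2]; exact dvd_mul_right _ _) (hk.vz (by rw [h1]; exact dvd_mul_left _ _))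
    (hk.vz (by rw [h2]; exact ⟨p * 2, by ring⟩)) ?_
  rw [h1, h2]
  intro e
  have h3 := Nat.eq_of_mul_eq_mul_left hp.pos e
  have h4 := hr.pos
  omega

theorem twoVan_of_kill [Finite G] (hp : p.Prime) (hpG : p ∣ Nat.card G) (hk : Kill G p) {y : G}
    (hy : p ∣ orderOf y) (hne : orderOf y ≠ p) : TwoVan p G := by
  have : Fact p.Prime := ⟨hp⟩
  obtain ⟨x, hx⟩ := exists_prime_orderOf_dvd_card' p hpG
  exact TwoVan.of_order (x := x) (y := y) (by rw [hx]) hy (hk.vz (by rw [hx])) (hk.vz hy) (by rw [hx]; exact hne.symm)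

end grp

open CoxeterSystem Cfsg.Agent.ChevalleyStructure.CoxeterGeom Cfsg.Agent.Tits.Roots Cfsg.Agent.Tits.Core
  Cfsg.Agent.Nodes.Reps Cfsg.Agent.Nodes.BNOf Cfsg.Agent.Nodes.StabComb Cfsg.Agent.H622.Levi
open Cfsg.Agent.LieRecognition.BNCox (cA)

variable {I W Y : Type*} [Fintype I] [DecidableEq I] [Group W] [Group Y] {M : CoxeterMatrix I}
  {cs : CoxeterSystem M W} {A : I → I → ℤ} {h : IsCartan M A} {r : ℕ} {T : Subgroup Y} {n : I → Y}
  {X : (I → ℤ) → Subgroup Y}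

/-- **Orthogonal chains, the second one of length two.** -/
theorem twoVan_chain [Finite W] [Finite Y] (R : RGD cs h r T n X) {f : ℕ} (hr : r.Prime)
    (hq : ∀ i, Nat.card (X (sr i)) = r ^ f) (hst : Kill Y r) {m : ℕ} (hm : 2 ≤ m) (k : Fin m ↪ I)
    (hk : ∀ i j, M (k i) (k j) = cA m i j) (k' : Fin 2 ↪ I) (hk' : ∀ i j, M (k' i) (k' j) = cA 2 i j)
    (ho : ∀ i j, M (k i) (k' j) = 2) {p e : ℕ} (hp : p.Prime) (hpr : p ≠ r) (hp2 : p ≠ 2)
    (hpm : ¬ p ∣ m + 1) (h2 : 2 ≤ e) (he : e ≤ m + 1) (hd : p ∣ (r ^ f) ^ e - 1) : TwoVan p Y := by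
  obtain ⟨s, hs, hs1⟩ := exists_prime R hm k hk hq hp hpm h2 he hd
  obtain ⟨⟨u, hu, hu1⟩, v, hv, hv1⟩ := exists_uv R k' hk' hr hq
  have hc := H53.HC.Orth.comm R (K := Set.range k) (K' := Set.range k') (H53.HC.orth_of h (by
    rintro _ ⟨i, rfl⟩ _ ⟨j, rfl⟩
    exact ho i j))
  exact twoVan_of_lie hp hr hpr hp2 hst hs1 hu1 hv1 (hc s hs u hu) (hc s hs v hv)

/-- An element of order `p r`. -/
theorem exists_mul_order [Finite W] [Finite Y] (R : RGD cs h r T n X) {f : ℕ} (hr : r.Prime) (hf : f ≠ 0)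
    (hq : ∀ i, Nat.card (X (sr i)) = r ^ f) {m : ℕ} (hm : 2 ≤ m) (k : Fin m ↪ I)
    (hk : ∀ i j, M (k i) (k j) = cA m i j) (j : I) (ho : ∀ i, M (k i) j = 2) {p e : ℕ} (hp : p.Prime) (hpr : p ≠ r)
    (hpm : ¬ p ∣ m + 1) (h2 : 2 ≤ e) (he : e ≤ m + 1) (hd : p ∣ (r ^ f) ^ e - 1) :
    ∃ y : Y, orderOf y = p * r := by
  obtain ⟨s, hs, hs1⟩ := exists_prime R hm k hk hq hp hpm h2 he hd
  obtain ⟨u, hu, hu1⟩ := exists_u (cs := cs) (h := h) hr hf hq j
  have hc := H53.HC.Orth.comm R (K := Set.range k) (K' := {j}) (H53.HC.orth_of h (by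
    rintro _ ⟨i, rfl⟩ _ rfl
    exact ho i))
  refine ⟨s * u, ?_⟩
  rw [(show Commute s u from hc s hs u hu).orderOf_mul_eq_mul_orderOf_of_coprime (by
    rw [hs1, hu1]
    exact (Nat.coprime_primes hp hr).2 hpr), hs1, hu1]

end Cfsg.Agent.H86.Van
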